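import Mathlib
import Cfsg.Agent.H160.PD.Crit
import Cfsg.Agent.H92.PRegT
import Cfsg.Agent.S0205
import Cfsg.Agent.S0005
import Cfsg.Agent.Lib.SolvableNormalP

/-!
# S4246: `NoOdd` and `Inc` from isolated cyclic tori (helper71)

`IsoT T t N` (helper92): `T` is cyclic of order `t` and contains the centralisers of its elements of prime order dividing
`N`.  `wn T = |N(T) : T|`.

* `exists_conj` : for a prime `r ∣ N` every `r`-subgroup is conjugate to a subgroup of `T`;
* `noOdd` : two tori `T`, `T'`, primes `r ∣ N`, `s ∣ N'`, `s` prime to `|N(T)|`, `r` prime to `|N(T')|`: `NoOdd S r s`;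
* `inner_false` : an element `≠ 1` does not commute with elements of order `r` and `s` (`t = N`, `t' = N'`, `t ≠ t'`).
-/

set_option autoImplicit false
set_option linter.unusedSectionVars false

namespace Cfsg.Agent.H71.PD

open Subgroup
open Cfsg.Agent.H92.PRegT (IsoT Iso wn)
open Cfsg.Agent.H160.PD

universe u

variable {S : Type u} [Group S] [Finite S] {T T' : Subgroup S} {t t' N N' r s : ℕ}

theorem not_dvd_index (h : IsoT T t N) (hr : r.Prime) (hrN : r ∣ N) : ¬ r ∣ T.index := by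
  intro hd
  have h1 : wn T * (normalizer (T : Set S)).index = T.index := relIndex_mul_index le_normalizer
  rw [← h1, hr.dvd_mul] at hd
  rcases hd with hd | hd
  · have h2 : wn T ≠ 0 := index_ne_zero_of_finite
    have h3 := Nat.le_of_dvd (Nat.pos_of_ne_zero h2) hd
    have h4 := h.wn_lt hr hrN
    omega
  · have h2 := h.index_modEq hr hrN
    have h3 : (normalizer (T : Set S)).index ≡ 0 [MOD r] := (Nat.modEq_zero_iff_dvd).2 hd
    have h4 : 1 ≡ 0 [MOD r] := h2.symm.trans h3
    exact hr.one_lt.ne' (Nat.dvd_one.1 ((Nat.modEq_zero_iff_dvd).1 h4))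

/-- every `r`-subgroup is conjugate to a subgroup of `T` -/
theorem exists_conj (h : IsoT T t N) (hr : r.Prime) (hrN : r ∣ N) {V : Subgroup S} (hV : IsPGroup r ↥V) :
    ∃ g : S, ∀ v ∈ V, g⁻¹ * v * g ∈ T := by
  have := Fact.mk hr
  obtain ⟨c, hc⟩ := hV.nonempty_fixed_point_of_prime_not_dvd_card (S ⧸ T) (not_dvd_index h hr hrN)
  obtain ⟨g, rfl⟩ := QuotientGroup.mk_surjective c
  refine ⟨g, fun v hv => ?_⟩
  have h1 : (QuotientGroup.mk (v * g) : S ⧸ T) = QuotientGroup.mk g := hc ⟨v, hv⟩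
  have h2 := QuotientGroup.eq.1 h1.symm
  rwa [← mul_assoc] at h2

/-- `T`-elements of order divisible by `r` are good -/
theorem good_of (hr : r.Prime) (hrN : r ∣ N) {y : S} (hy : y ∈ T) (hd : r ∣ orderOf y) :
    Cfsg.Agent.H92.PRegT.Good T N y :=
  ⟨hy, fun hc => hr.one_lt.ne' (Nat.dvd_one.1 (hc ▸ Nat.dvd_gcd hd hrN))⟩

/-- an element normalising a nontrivial `r`-subgroup -/
theorem orderOf_dvd (h : IsoT T t N) (hr : r.Prime) (hrN : r ∣ N) {V : Subgroup S} (hV : IsPGroup r ↥V)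
    (hne : V ≠ ⊥) {y : S} (hy : ∀ v ∈ V, y * v * y⁻¹ ∈ V) : orderOf y ∣ wn T * t := by
  obtain ⟨g, hg⟩ := exists_conj h hr hrN hV
  obtain ⟨⟨v, hv⟩, hv1⟩ : ∃ v : ↥V, v ≠ 1 := by
    have := (nontrivial_iff_ne_bot V).2 hne
    exact exists_ne 1
  have hv1' : v ≠ 1 := fun h0 => hv1 (Subtype.ext h0)
  have hrv : r ∣ orderOf v := by
    obtain ⟨k, hk⟩ := hV ⟨v, hv⟩
    have h1 : v ^ r ^ k = 1 := congrArg Subtype.val hk
    obtain ⟨j, -, hj⟩ := (Nat.dvd_prime_pow hr).1 (orderOf_dvd_of_pow_eq_one h1)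
    rcases Nat.eq_zero_or_pos j with rfl | h0
    · rw [pow_zero, orderOf_eq_one_iff] at hj
      exact absurd hj hv1'
    · rw [hj]
      exact dvd_pow_self r h0.ne'
  have ho : orderOf (g⁻¹ * v * g) = orderOf v := by
    have := orderOf_injective (MulAut.conj g⁻¹).toMonoidHom (MulAut.conj g⁻¹).injective v
    simpa using this
  have hgood := good_of (T := T) (N := N) hr hrN (hg v hv) (by rw [ho]; exact hrv)
  have h2 : g⁻¹ * y * g ∈ normalizer (T : Set S) := by
    refine h.mem_normalizer hgood ?_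
    have h3 := hg _ (hy v hv)
    have h4 : g⁻¹ * y * g * (g⁻¹ * v * g) * (g⁻¹ * y * g)⁻¹ = g⁻¹ * (y * v * y⁻¹) * g := by group
    rw [h4]
    exact h3
  have h3 : orderOf (g⁻¹ * y * g) = orderOf y := by
    have := orderOf_injective (MulAut.conj g⁻¹).toMonoidHom (MulAut.conj g⁻¹).injective y
    simpa using this
  rw [← h3, ← h.card, ← Cfsg.Agent.H92.PRegT.card_normalizer, ← orderOf_mk _ h2]
  exact orderOf_dvd_natCard _

/-- the centraliser of an element of order `r` -/
theorem centralizer_conj (h : IsoT T t N) (hr : r.Prime) (hrN : r ∣ N) {x : S} (hx : orderOf x = r) :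
    ∃ g : S, ∀ z : S, z * x = x * z ↔ g⁻¹ * z * g ∈ T := by
  have := Fact.mk hr
  have hV : IsPGroup r ↥(zpowers x) := IsPGroup.of_card (n := 1) (by rw [Nat.card_zpowers, hx, pow_one])
  obtain ⟨g, hg⟩ := exists_conj h hr hrN hV
  have ho : orderOf (g⁻¹ * x * g) = r := by
    have := orderOf_injective (MulAut.conj g⁻¹).toMonoidHom (MulAut.conj g⁻¹).injective x
    rw [← hx]
    simpa using this
  have hgood := good_of (T := T) (N := N) hr hrN (hg x (mem_zpowers x)) (by rw [ho])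
  refine ⟨g, fun z => ?_⟩
  rw [← h.centralizer hgood, mem_centralizer_singleton_iff]
  constructor
  · intro hz
    calc g⁻¹ * z * g * (g⁻¹ * x * g) = g⁻¹ * (z * x) * g := by group
      _ = g⁻¹ * x * g * (g⁻¹ * z * g) := by rw [hz]; group
  · intro hz
    have h1 : g⁻¹ * (z * x) * g = g⁻¹ * (x * z) * g := by
      calc g⁻¹ * (z * x) * g = g⁻¹ * z * g * (g⁻¹ * x * g) := by group
        _ = g⁻¹ * (x * z) * g := by rw [hz]; group
    have h2 := mul_right_cancel h1
    exact mul_left_cancel h2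

/-- the order of the centraliser -/
theorem card_centralizer (h : IsoT T t N) (hr : r.Prime) (hrN : r ∣ N) {x : S} (hx : orderOf x = r) :
    Nat.card ↥(centralizer {x}) = t := by
  obtain ⟨g, hg⟩ := centralizer_conj h hr hrN hx
  have h1 : (centralizer {x}).map (MulAut.conj g⁻¹).toMonoidHom = T := by
    ext z
    rw [mem_map]
    constructor
    · rintro ⟨y, hy, rfl⟩
      have := (hg y).1 (mem_centralizer_singleton_iff.1 hy)
      simpa using this
    · intro hz
      refine ⟨g * z * g⁻¹, mem_centralizer_singleton_iff.2 ((hg _).2 ?_), by simp [mul_assoc]⟩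
      rwa [show g⁻¹ * (g * z * g⁻¹) * g = z by group]
  rw [← h.card, ← h1]
  exact Nat.card_congr ((centralizer {x}).equivMapOfInjective _ (MulAut.conj g⁻¹).injective).toEquiv

/-- an element `≠ 1` does not commute with elements of order `r` and `s` -/
theorem inner_false (h : IsoT T t t) (h' : IsoT T' t' t') (htt : t ≠ t') (hr : r.Prime) (hrt : r ∣ t) (hs : s.Prime)
    (hst : s ∣ t') {x y z : S} (hx : orderOf x = r) (hy : orderOf y = s) (hz : z ≠ 1) (hzx : z * x = x * z)
    (hzy : z * y = y * z) : False := by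
  have key : ∀ {T : Subgroup S} {t r : ℕ} {x : S}, IsoT T t t → r.Prime → r ∣ t → orderOf x = r → z * x = x * z →
      Nat.card ↥(centralizer {z}) = t := by
    intro T t r x h hr hrt hx hzx
    obtain ⟨g, hg⟩ := centralizer_conj h hr hrt hx
    have h1 := (hg z).1 hzx
    have ho : orderOf (g⁻¹ * z * g) = orderOf z := by
      have := orderOf_injective (MulAut.conj g⁻¹).toMonoidHom (MulAut.conj g⁻¹).injective z
      simpa using this
    have h2 : orderOf z ≠ 1 := fun h0 => hz (orderOf_eq_one_iff.1 h0)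
    obtain ⟨l, hl, hlz⟩ := Nat.exists_prime_and_dvd h2
    have h3 : orderOf (g⁻¹ * z * g) ∣ t := by
      rw [← h.card, ← orderOf_mk _ h1]
      exact orderOf_dvd_natCard _
    have h4 := h.centralizer (good_of (N := t) hl ((ho ▸ hlz : l ∣ orderOf (g⁻¹ * z * g)).trans h3) h1 (ho ▸ hlz))
    have h5 : (centralizer {z}).map (MulAut.conj g⁻¹).toMonoidHom = T := by
      rw [← h4]
      have := Cfsg.Agent.H92.PRegT.map_centralizer (MulAut.conj g⁻¹) z
      rw [this]
      congr 2
      simp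
    rw [← h.card, ← h5]
    exact Nat.card_congr ((centralizer {z}).equivMapOfInjective _ (MulAut.conj g⁻¹).injective).toEquiv
  exact htt ((key h hr hrt hx hzx).symm.trans (key h' hs hst hy hzy))

/-- **`NoOdd` from two tori** -/
theorem noOdd (h : IsoT T t N) (h' : IsoT T' t' N') (hr : r.Prime) (hrN : r ∣ N) (hs : s.Prime) (hsN : s ∣ N')
    (h1 : ¬ s ∣ wn T * t) (h2 : ¬ r ∣ wn T' * t') : NoOdd S r s := by
  classical
  intro H hodd hrH hsH
  have hrs : r ≠ s := by
    rintro rfl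
    exact h1 ((hrN.trans h.dvd).mul_left _)
  have hsol : Group.IsSolvable ↥H := Cfsg.Agent.S0205.result hodd
  -- a Hall `{r, s}`-subgroup
  obtain ⟨a, m, hm, hHm⟩ := Nat.exists_eq_pow_mul_and_not_dvd (n := Nat.card ↥H) Nat.card_pos.ne' r hr.ne_one
  have hm0 : m ≠ 0 := by
    rintro rfl
    exact hm (dvd_zero r)
  obtain ⟨b, n, hn, hmn⟩ := Nat.exists_eq_pow_mul_and_not_dvd (n := m) hm0 s hs.ne_one
  have hnr : ¬ r ∣ n := fun h0 => hm (hmn ▸ h0.mul_left _)
  have ha : a ≠ 0 := by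
    rintro rfl
    rw [pow_zero, one_mul] at hHm
    exact hm (hHm ▸ hrH)
  have hb : b ≠ 0 := by
    rintro rfl
    rw [pow_zero, one_mul] at hmn
    rw [hHm, hs.prime.dvd_mul, hmn] at hsH
    rcases hsH with h0 | h0
    · exact hrs ((Nat.prime_dvd_prime_iff_eq hs hr).1 (hs.dvd_of_dvd_pow h0)).symm
    · exact hn h0
  have hcop : (r ^ a * s ^ b).Coprime n := by
    refine Nat.Coprime.mul_left ?_ ?_
    · exact Nat.Coprime.pow_left _ ((Nat.Prime.coprime_iff_not_dvd hr).2 hnr)
    · exact Nat.Coprime.pow_left _ ((Nat.Prime.coprime_iff_not_dvd hs).2 hn)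
  obtain ⟨H0, hH0, -⟩ := Cfsg.Agent.S0005.result (G := ↥H) (r ^ a * s ^ b) n (by rw [hHm, hmn, mul_assoc]) hcop ⊥
    (by rw [card_bot]; exact Nat.coprime_one_left _)
  have hsol0 : Group.IsSolvable ↥H0 := inferInstance
  have hr0 : r ∣ Nat.card ↥H0 := by rw [hH0]; exact (dvd_pow_self r ha).mul_right _
  have hs0 : s ∣ Nat.card ↥H0 := by rw [hH0]; exact (dvd_pow_self s hb).mul_left _
  have hnt : Nontrivial ↥H0 := by
    rw [← Finite.one_lt_card_iff_nontrivial]
    have h0 := Nat.le_of_dvd Nat.card_pos hr0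
    have h3 := hr.one_lt
    omega
  obtain ⟨l, V, hl, hVn, hVl, -, hVb⟩ := Cfsg.Agent.Lib.SolvableNormalP.exists_normal_pSubgroup ↥H0
  have := Fact.mk hl
  -- elements of order `r`, `s`
  have hex : ∀ {p : ℕ}, p.Prime → p ∣ Nat.card ↥H0 → ∃ y : ↥H0, orderOf y = p := by
    intro p hp hpd
    have := Fact.mk hp
    exact exists_prime_orderOf_dvd_card' p hpd
  let ι : ↥H0 →* S := H.subtype.comp H0.subtype
  have hι : Function.Injective ι := fun a b hab => Subtype.ext (Subtype.ext hab)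
  have hV' : IsPGroup l ↥(V.map ι) := hVl.map _
  have hne : V.map ι ≠ ⊥ := fun h0 => hVb ((map_eq_bot_iff_of_injective V hι).1 h0)
  have hnorm : ∀ y : ↥H0, ∀ v ∈ V.map ι, ι y * v * (ι y)⁻¹ ∈ V.map ι := by
    rintro y _ ⟨v, hv, rfl⟩
    refine ⟨y * v * y⁻¹, hVn.conj_mem v hv y, ?_⟩
    rw [map_mul, map_mul, map_inv]
  have hlc : l = r ∨ l = s := by
    obtain ⟨k, hk⟩ := (IsPGroup.iff_card (p := l)).1 hVl
    have hk0 : k ≠ 0 := by
      rintro rfl
      rw [pow_zero] at hk
      exact hVb ((card_eq_one).1 hk)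
    have h3 : l ∣ r ^ a * s ^ b := by
      rw [← hH0]
      exact ((dvd_pow_self l hk0).trans (dvd_of_eq hk.symm)).trans (card_subgroup_dvd_card V)
    rcases hl.dvd_mul.1 h3 with h4 | h4
    · exact Or.inl ((Nat.prime_dvd_prime_iff_eq hl hr).1 (hl.dvd_of_dvd_pow h4))
    · exact Or.inr ((Nat.prime_dvd_prime_iff_eq hl hs).1 (hl.dvd_of_dvd_pow h4))
  rcases hlc with rfl | rfl
  · obtain ⟨y, hy⟩ := hex hs hs0
    have h3 := orderOf_dvd h hr hrN hV' hne (hnorm y)
    rw [orderOf_injective ι hι, hy] at h3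
    exact h1 h3
  · obtain ⟨y, hy⟩ := hex hr hr0
    have h3 := orderOf_dvd h' hs hsN hV' hne (hnorm y)
    rw [orderOf_injective ι hι, hy] at h3
    exact h2 h3

end Cfsg.Agent.H71.PD
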