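import Mathlib
import Cfsg.Agent.H71.PD.Tori
import Cfsg.Agent.H719.RowGen
import Cfsg.Agent.H719.AutInv
import Cfsg.Agent.H92.PRegE8R
import Cfsg.Agent.H129.CycT2
import Cfsg.Agent.S2125
import Cfsg.Agent.S1065
import Cfsg.Agent.Lib.Zsigmondy

/-!
# S4246: the row of `E₈(q)` (helper71)

`row_three` with the primitive prime divisors of `q ^ 15 - 1`, `q ^ 24 - 1`, `q ^ 30 - 1` (primitive over the prime
field) and the isolated cyclic tori of orders `Φ₁₅(q)`, `Φ₂₄(q)`, `Φ₃₀(q)`.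
-/

set_option autoImplicit false
set_option linter.unusedSectionVars false

namespace Cfsg.Agent.H71.PD

open Subgroup
open Cfsg.Agent.H92.PRegT (IsoT Iso wn)
open Cfsg.Agent.H160.PD

universe u

/-- the data of an isolated torus of order `N` and a prime `l` -/
structure TorD (S : Type u) [Group S] (l N w : ℕ) : Prop where
  good : Good S l
  tor : ∃ T : Subgroup S, IsoT T N N ∧ wn T ≤ w
  dvd : l ∣ N
  inn : ∀ b : MulAut S, (orderOf b).Prime → orderOf b ≠ 2 → ∀ x : S, orderOf x = l → b x = x → ∃ g, b = MulAut.conj g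
  cop : ∀ k, 0 < k → k ≤ w → ¬ l ∣ k

theorem TorD.pair {S : Type u} [Group S] [Finite S] {l l' N N' w : ℕ} (h : TorD S l N w) (h' : TorD S l' N' w)
    (h1 : ¬ l' ∣ N) (h2 : ¬ l ∣ N') : NoOdd S l l' ∧ Inc S l l' := by
  obtain ⟨T, hT, hw⟩ := h.tor
  obtain ⟨T', hT', hw'⟩ := h'.tor
  have hpos : ∀ T : Subgroup S, 0 < wn T := fun T => Nat.pos_of_ne_zero index_ne_zero_of_finite
  refine ⟨noOdd hT hT' h.good.prime h.dvd h'.good.prime h'.dvd ?_ ?_, ?_⟩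
  · rw [h'.good.prime.dvd_mul]
    rintro (h3 | h3)
    · exact h'.cop _ (hpos T) hw h3
    · exact h1 h3
  · rw [h.good.prime.dvd_mul]
    rintro (h3 | h3)
    · exact h.cop _ (hpos T') hw' h3
    · exact h2 h3
  · intro b hb hb2 x hx hbx y hy hby
    obtain ⟨g, rfl⟩ := h.inn b hb hb2 x hx hbx
    have hg1 : g ≠ 1 := by
      rintro rfl
      rw [map_one, orderOf_one] at hb
      exact Nat.not_prime_one hb
    have hc : ∀ z : S, MulAut.conj g z = z → g * z = z * g := by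
      intro z hz
      rw [MulAut.conj_apply] at hz
      exact mul_inv_eq_iff_eq_mul.1 hz
    exact inner_false hT hT' (fun h0 => h1 (h0 ▸ h'.dvd)) h.good.prime h.dvd h'.good.prime h'.dvd hx hy hg1
      (hc x hbx) (hc y hby)

namespace E8

open Cfsg Cfsg.Lie Cfsg.Lie.ChevalleyDatum
open Cfsg.Agent.ChevalleyStructure Cfsg.Agent.ChevalleyStructure.Elts Cfsg.Agent.ChevalleyStructure.CoxeterGeom
  Cfsg.Agent.ChevalleyStructure.CoxeterGeomTypes
open Cfsg.Agent.Nodes.RGDChev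
open Cfsg.Agent.H129.TorusChar
open Cfsg.Agent.H568.FldExc Cfsg.Agent.H719

variable {F : Type u} [Field F] [Fintype F] {r e : ℕ} [Fact r.Prime] [CharP F r]

theorem finE8 : Finite ↥(chevE8.group F) := by
  have : Finite (Matrix.GeneralLinearGroup chevE8.Idx F) := inferInstance
  infer_instance

theorem cast_pow_sub {q : ℕ} (hq : 2 ≤ q) (d : ℕ) : ((q ^ d - 1 : ℕ) : ℤ) = (q : ℤ) ^ d - 1 := by
  rw [Nat.cast_sub (Nat.one_le_pow _ _ (by omega))]
  push_cast; rfl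

/-- the tori -/
theorem exists_tor {q N w : ℕ} (hF : Fintype.card F = q) (hex : Cfsg.Agent.H129.CycT.CycExact ↥(chevE8.group F) N)
    (hN1 : N ≠ 1)
    (hw : ∃ M : ℤ, Cfsg.Agent.H92.PRegE8.P8 (q : ℤ) = (N : ℤ) * M ∧ (N : ℤ) ∣ M - w) :
    ∃ T : Subgroup ↥(chevE8.group F), IsoT T N N ∧ wn T ≤ w := by
  have := finE8 (F := F)
  obtain ⟨T, h1, h2, h3⟩ := hex
  have hT : IsoT T N N := ⟨h1, h2, dvd_rfl, fun r hr _ y hy hyr => (h3 y hy (by
    rintro rfl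
    rw [orderOf_one] at hyr
    exact hr.one_lt.ne hyr)).le⟩
  refine ⟨T, hT, ?_⟩
  obtain ⟨p, hp, hpN⟩ := Nat.exists_prime_and_dvd hN1
  have hq2 : 2 ≤ q := by rw [← hF]; exact Fintype.one_lt_card
  have hN0 : 0 < N := h2 ▸ Nat.card_pos
  have hc : (Nat.card ↥(chevE8.group F) : ℤ) = Cfsg.Agent.H92.PRegE8.P8 q := by
    rw [Cfsg.Agent.S1065.result hF]
    simp only [Nat.cast_mul, cast_pow_sub hq2]
    unfold Cfsg.Agent.H92.PRegE8.P8
    push_cast; ring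
  have h4 := Cfsg.Agent.H92.PRegE8.modw (S := ↥(chevE8.group F)) (q := q) rfl hN0 hc hw
  exact hT.wn_le hp hpN (h4.of_dvd hpN)

/-- **The data for one prime.** -/
theorem torD (hq : Fintype.card F = r ^ e) (he : 0 < e) {m N l w : ℕ} (hm : 10 < m) (hmd : m ∣ 24 ∨ m ∣ 30)
    (hl : l.Prime) (hlm : ∀ k, l ∣ r ^ k - 1 ↔ e * m ∣ k) (hl1 : e * m ∣ l - 1) (hlr : ¬ l ∣ r) (hlN : l ∣ N)
    (hT : ∃ T : Subgroup ↥(chevE8.group F), IsoT T N N ∧ wn T ≤ w) (hcop : ∀ k, 0 < k → k ≤ w → ¬ l ∣ k) :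
    TorD ↥(chevE8.group F) l N w := by
  have := finE8 (F := F)
  have hp : IsType chevE8 8 CoxeterMatrix.E₈ := by simp [IsType, typeList]
  have hlt : e * m < l := by
    have h0 := hl.two_le
    have := Nat.le_of_dvd (by omega) hl1
    omega
  have hel : e < l := lt_of_le_of_lt (Nat.le_mul_of_pos_right e (by omega)) hlt
  have hm10 : 10 < l := lt_of_lt_of_le hm ((Nat.le_mul_of_pos_left m he).trans hlt.le)
  refine ⟨⟨hl, by omega, ?_⟩, hT, hlN, ?_, hcop⟩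
  · have h1 : out ↥(chevE8.group F) = e := Cfsg.Agent.S2125.result r e hq
    rw [h1, Nat.factorization_eq_zero_of_not_dvd (fun h => by have := Nat.le_of_dvd he h; omega), v_pos hl,
      Cfsg.Agent.S1065.result hq]
    have h2 : l ∣ (r ^ e) ^ 24 - 1 ∨ l ∣ (r ^ e) ^ 30 - 1 := by
      rw [← pow_mul, ← pow_mul, hlm, hlm]
      exact hmd.imp (Nat.mul_dvd_mul_left e) (Nat.mul_dvd_mul_left e)
    rcases h2 with h2 | h2
    · exact (h2.mul_left _).mul_right _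
    · exact h2.mul_left _
  · intro b hb hb2 x hx hbx
    rcases dich hp hq he invC_E8 (by norm_num) (AutInv.inv_E8 _) ordF_E8 hb hb2 (Or.inl (Nat.coprime_one_right _))
      (pow_orderOf_eq_one b) with h | ⟨-, h⟩
    · exact h
    · refine absurd hbx (h x ?_)
      rw [hx]
      refine ⟨hl, ?_, Nat.coprime_one_right _, m, fun k hk => (hlm k).1 hk, ?_⟩
      · rintro rfl
        exact hlr dvd_rfl
      · simp only [List.mem_cons, List.not_mem_nil, or_false]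
        intro k hk
        omega

/-- **The row of `E₈(q)`.** -/
theorem row (hq : Fintype.card F = r ^ e) (he : 0 < e) : Row ↥(chevE8.group F) := by
  have := finE8 (F := F)
  have hp : IsType chevE8 8 CoxeterMatrix.E₈ := by simp [IsType, typeList]
  have hZ : center ↥(chevE8.group F) = ⊥ := Cfsg.Agent.H70.OutCount.center_eq_bot hp.inList
  have hr2 : 2 ≤ r := (Fact.out : r.Prime).two_le
  obtain ⟨q, hqr⟩ : ∃ q, q = r ^ e := ⟨_, rfl⟩
  have hF : Fintype.card F = q := hq.trans hqr.symm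
  have hq2 : 2 ≤ q := by rw [← hF]; exact Fintype.one_lt_card
  -- primes
  have hprim : ∀ m, 10 < m → ∃ l : ℕ, l.Prime ∧ (∀ k, l ∣ r ^ k - 1 ↔ e * m ∣ k) ∧ e * m ∣ l - 1 ∧ ¬ l ∣ r := by
    intro m hm
    have h1 : 10 < e * m := lt_of_lt_of_le hm (Nat.le_mul_of_pos_left m he)
    exact Cfsg.Agent.Lib.Zsigmondy.exists_primitive hr2 (by omega) (fun h => by omega) (fun h => by omega)
  have hpq : ∀ {m l : ℕ}, (∀ k, l ∣ r ^ k - 1 ↔ e * m ∣ k) → ∀ k, l ∣ q ^ k - 1 ↔ m ∣ k := by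
    intro m l h k
    rw [hqr, ← pow_mul, h]
    exact Nat.mul_dvd_mul_iff_left he
  obtain ⟨l15, hl15, hm15, hd15, hr15⟩ := hprim 15 (by norm_num)
  obtain ⟨l24, hl24, hm24, hd24, hr24⟩ := hprim 24 (by norm_num)
  obtain ⟨l30, hl30, hm30, hd30, hr30⟩ := hprim 30 (by norm_num)
  have hq15 := hpq hm15
  have hq24 := hpq hm24
  have hq30 := hpq hm30
  -- the orders of the tori
  have hz : (2 : ℤ) ≤ q := by exact_mod_cast hq2
  obtain ⟨a, ha⟩ : ∃ a : ℤ, (q : ℤ) = a + 2 := ⟨q - 2, by ring⟩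
  have ha0 : 0 ≤ a := by omega
  obtain ⟨N24, hN24⟩ : ∃ N : ℕ, (N : ℤ) = 1 - (q : ℤ) ^ 4 + (q : ℤ) ^ 8 := by
    refine ⟨(1 - (q : ℤ) ^ 4 + (q : ℤ) ^ 8).toNat, Int.toNat_of_nonneg ?_⟩
    rw [ha]; ring_nf; positivity
  obtain ⟨N30, hN30⟩ : ∃ N : ℕ, (N : ℤ) = 1 + (q : ℤ) - (q : ℤ) ^ 3 - (q : ℤ) ^ 4 - (q : ℤ) ^ 5 + (q : ℤ) ^ 7 + (q : ℤ) ^ 8 := by
    refine ⟨(1 + (q : ℤ) - (q : ℤ) ^ 3 - (q : ℤ) ^ 4 - (q : ℤ) ^ 5 + (q : ℤ) ^ 7 + (q : ℤ) ^ 8).toNat, Int.toNat_of_nonneg ?_⟩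
    rw [ha]; ring_nf; positivity
  obtain ⟨N15, hN15⟩ : ∃ N : ℕ, (N : ℤ) = 1 - (q : ℤ) + (q : ℤ) ^ 3 - (q : ℤ) ^ 4 + (q : ℤ) ^ 5 - (q : ℤ) ^ 7 + (q : ℤ) ^ 8 := by
    refine ⟨(1 - (q : ℤ) + (q : ℤ) ^ 3 - (q : ℤ) ^ 4 + (q : ℤ) ^ 5 - (q : ℤ) ^ 7 + (q : ℤ) ^ 8).toNat, Int.toNat_of_nonneg ?_⟩
    rw [ha]; ring_nf; positivity
  have hsub : ∀ k, ((q ^ k - 1 : ℕ) : ℤ) = (q : ℤ) ^ k - 1 := cast_pow_sub hq2
  -- divisibilities
  have d15 : N15 ∣ q ^ 15 - 1 := by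
    rw [← Int.natCast_dvd_natCast, hsub, hN15]
    exact ⟨((q : ℤ) ^ 5 - 1) * ((q : ℤ) ^ 2 + q + 1), by ring⟩
  have d24 : N24 ∣ q ^ 24 - 1 := by
    rw [← Int.natCast_dvd_natCast, hsub, hN24]
    exact ⟨((q : ℤ) ^ 12 - 1) * ((q : ℤ) ^ 4 + 1), by ring⟩
  have d30 : N30 ∣ q ^ 30 - 1 := by
    rw [← Int.natCast_dvd_natCast, hsub, hN30]
    exact ⟨((q : ℤ) ^ 15 - 1) * (((q : ℤ) ^ 5 + 1) * ((q : ℤ) ^ 2 - q + 1)), by ring⟩
  have d30' : N30 ∣ q ^ 15 + 1 := by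
    rw [← Int.natCast_dvd_natCast, hN30]
    push_cast
    exact ⟨((q : ℤ) ^ 5 + 1) * ((q : ℤ) ^ 2 - q + 1), by ring⟩
  have big : ∀ {m l : ℕ}, 10 < m → l.Prime → e * m ∣ l - 1 → 10 < l := by
    intro m l hm hl hd
    have h0 := hl.two_le
    have h1 := Nat.le_of_dvd (by omega) hd
    have h2 : m ≤ e * m := Nat.le_mul_of_pos_left m he
    omega
  have p15 : (l15 : ℕ) ∣ N15 := by
    have h1 : l15 ∣ q ^ 15 - 1 := (hq15 15).2 dvd_rfl
    have hP : _root_.Prime (l15 : ℤ) := Nat.prime_iff_prime_int.1 hl15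
    have h2 : (l15 : ℤ) ∣ (q : ℤ) ^ 15 - 1 := by rw [← hsub]; exact_mod_cast h1
    have h3 : (q : ℤ) ^ 15 - 1 = (((q : ℤ) ^ 5 - 1) * ((q : ℤ) ^ 2 + q + 1)) * N15 := by rw [hN15]; ring
    rw [h3] at h2
    rcases hP.dvd_mul.1 h2 with h4 | h4
    · exfalso
      rcases hP.dvd_mul.1 h4 with h5 | h5
      · have h6 : l15 ∣ q ^ 5 - 1 := by rw [← Int.natCast_dvd_natCast, hsub]; exact h5
        have := (hq15 5).1 h6
        omega
      · have h6 : l15 ∣ q ^ 3 - 1 := by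
          rw [← Int.natCast_dvd_natCast, hsub]
          exact h5.trans ⟨(q : ℤ) - 1, by ring⟩
        have := (hq15 3).1 h6
        omega
    · exact_mod_cast h4
  have p24 : (l24 : ℕ) ∣ N24 := by
    have h1 : l24 ∣ q ^ 24 - 1 := (hq24 24).2 dvd_rfl
    have hP : _root_.Prime (l24 : ℤ) := Nat.prime_iff_prime_int.1 hl24
    have h2 : (l24 : ℤ) ∣ (q : ℤ) ^ 24 - 1 := by rw [← hsub]; exact_mod_cast h1
    have h3 : (q : ℤ) ^ 24 - 1 = (((q : ℤ) ^ 12 - 1) * ((q : ℤ) ^ 4 + 1)) * N24 := by rw [hN24]; ring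
    rw [h3] at h2
    rcases hP.dvd_mul.1 h2 with h4 | h4
    · exfalso
      rcases hP.dvd_mul.1 h4 with h5 | h5
      · have h6 : l24 ∣ q ^ 12 - 1 := by rw [← Int.natCast_dvd_natCast, hsub]; exact h5
        have := (hq24 12).1 h6
        omega
      · have h6 : l24 ∣ q ^ 8 - 1 := by
          rw [← Int.natCast_dvd_natCast, hsub]
          exact h5.trans ⟨(q : ℤ) ^ 4 - 1, by ring⟩
        have := (hq24 8).1 h6
        omega
    · exact_mod_cast h4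
  have p30 : (l30 : ℕ) ∣ N30 := by
    have h1 : l30 ∣ q ^ 30 - 1 := (hq30 30).2 dvd_rfl
    have hP : _root_.Prime (l30 : ℤ) := Nat.prime_iff_prime_int.1 hl30
    have h2 : (l30 : ℤ) ∣ (q : ℤ) ^ 30 - 1 := by rw [← hsub]; exact_mod_cast h1
    have h3 : (q : ℤ) ^ 30 - 1 = ((q : ℤ) ^ 15 - 1) * (((q : ℤ) ^ 5 + 1) * ((q : ℤ) ^ 2 - q + 1)) * N30 := by
      rw [hN30]; ring
    rw [h3] at h2
    rcases hP.dvd_mul.1 h2 with h4 | h4
    · exfalso
      rcases hP.dvd_mul.1 h4 with h5 | h5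
      · have h6 : l30 ∣ q ^ 15 - 1 := by rw [← Int.natCast_dvd_natCast, hsub]; exact h5
        have := (hq30 15).1 h6
        omega
      · rcases hP.dvd_mul.1 h5 with h5 | h5
        · have h6 : l30 ∣ q ^ 10 - 1 := by
            rw [← Int.natCast_dvd_natCast, hsub]
            exact h5.trans ⟨(q : ℤ) ^ 5 - 1, by ring⟩
          have := (hq30 10).1 h6
          omega
        · have h6 : l30 ∣ q ^ 6 - 1 := by
            rw [← Int.natCast_dvd_natCast, hsub]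
            exact h5.trans ⟨((q : ℤ) ^ 3 - 1) * ((q : ℤ) + 1), by ring⟩
          have := (hq30 6).1 h6
          omega
    · exact_mod_cast h4
  have n1 : ∀ {l N : ℕ}, 10 < l → l ∣ N → N ≠ 1 := by
    rintro l N h1 h2 rfl
    have := Nat.le_of_dvd one_pos h2
    omega
  have g15 := big (by norm_num) hl15 hd15
  have g24 := big (by norm_num) hl24 hd24
  have g30 := big (by norm_num) hl30 hd30
  -- small multiples
  have cop : ∀ {m l : ℕ}, m = 15 ∨ m = 24 ∨ m = 30 → l.Prime → e * m ∣ l - 1 → ∀ k, 0 < k → k ≤ 30 → ¬ l ∣ k := by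
    intro m l hm hl hd k hk0 hk hlk
    have h1 := Nat.le_of_dvd hk0 hlk
    have h2 : m ∣ l - 1 := (dvd_mul_left m e).trans hd
    have h3 := hl.two_le
    have h4 : l ≤ 30 := h1.trans hk
    rcases hm with rfl | rfl | rfl
    · have : l = 16 := by omega
      subst this
      exact absurd hl (by norm_num)
    · have : l = 25 := by omega
      subst this
      exact absurd hl (by norm_num)
    · omega
  have le30 : ∀ {N w : ℕ}, w ≤ 30 → (∃ T : Subgroup ↥(chevE8.group F), IsoT T N N ∧ wn T ≤ w) →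
      ∃ T : Subgroup ↥(chevE8.group F), IsoT T N N ∧ wn T ≤ 30 := by
    rintro N w hw ⟨T, h1, h2⟩
    exact ⟨T, h1, h2.trans hw⟩
  have D15 : TorD ↥(chevE8.group F) l15 N15 30 := torD hq he (by norm_num) (Or.inr (by norm_num)) hl15 hm15 hd15 hr15
    p15 (le30 le_rfl (exists_tor hF (Cfsg.Agent.H129.CycT.exact_E8_15 hF hN15) (n1 g15 p15) (by
      rw [hN15]; exact Cfsg.Agent.H92.PRegE8.w15 q))) (cop (Or.inl rfl) hl15 hd15)
  have D24 : TorD ↥(chevE8.group F) l24 N24 30 := torD hq he (by norm_num) (Or.inl (by norm_num)) hl24 hm24 hd24 hr24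
    p24 (le30 (w := 24) (by norm_num) (exists_tor hF (Cfsg.Agent.H129.CycT.exact_E8_24 hF hN24) (n1 g24 p24) (by
      rw [hN24]; exact Cfsg.Agent.H92.PRegE8.w24 q))) (cop (Or.inr (Or.inl rfl)) hl24 hd24)
  have D30 : TorD ↥(chevE8.group F) l30 N30 30 := torD hq he (by norm_num) (Or.inr (by norm_num)) hl30 hm30 hd30 hr30
    p30 (le30 le_rfl (exists_tor hF (Cfsg.Agent.H129.CycT.exact_E8_30 hF hN30) (n1 g30 p30) (by
      rw [hN30]; exact Cfsg.Agent.H92.PRegE8.w30 q))) (cop (Or.inr (Or.inr rfl)) hl30 hd30)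
  -- non-divisibilities
  have e1 : ¬ l24 ∣ N15 := fun h => by have := (hq24 15).1 (h.trans d15); omega
  have e2 : ¬ l15 ∣ N24 := fun h => by have := (hq15 24).1 (h.trans d24); omega
  have e3 : ¬ l30 ∣ N15 := fun h => by have := (hq30 15).1 (h.trans d15); omega
  have e4 : ¬ l15 ∣ N30 := fun h => by
    have h1 := h.trans d30'
    have h2 : l15 ∣ q ^ 15 - 1 := (hq15 15).2 dvd_rfl
    have h3 : 1 ≤ q ^ 15 := Nat.one_le_pow _ _ (by omega)
    have h4 : l15 ∣ 2 := by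
      have h5 := (Nat.dvd_add_right h2).1 (show l15 ∣ q ^ 15 - 1 + 2 by
        rw [show q ^ 15 - 1 + 2 = q ^ 15 + 1 by omega]; exact h1)
      exact h5
    have := Nat.le_of_dvd (by norm_num) h4
    omega
  have e5 : ¬ l30 ∣ N24 := fun h => by have := (hq30 24).1 (h.trans d24); omega
  have e6 : ¬ l24 ∣ N30 := fun h => by have := (hq24 30).1 (h.trans d30); omega
  obtain ⟨a1, a2⟩ := D15.pair D24 e1 e2
  obtain ⟨b1, b2⟩ := D15.pair D30 e3 e4
  obtain ⟨c1, c2⟩ := D24.pair D30 e5 e6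
  exact row_three hZ D15.good D24.good D30.good a1 b1 c1 a2 b2 c2

end E8

/-- **The row of `E₈`.** -/
theorem row_e8 (K : Type u) [Group K] (h : Cfsg.Lie.IsoE8 K) : Row K := by
  obtain ⟨F, _, _, ⟨e⟩⟩ := h
  obtain ⟨r, hr⟩ := CharP.exists F
  have : Fact r.Prime := ⟨CharP.char_is_prime F r⟩
  obtain ⟨n, -, hn⟩ := FiniteField.card F r
  exact (E8.row hn n.pos).congr e

end Cfsg.Agent.H71.PD
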